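import Groth.Agent.DepthLib.Sequence
import Groth.Agent.DepthLib.Localization
import Mathlib

/-!
# Regular sequences on the closed fibre of a flat module

For a local homomorphism `A → B` of Noetherian local rings and a finite `B`-module `M` flat over `A`, a sequence
regular on `M / 𝔪 M` is regular on every `M ⊗ X` with flat quotients.
-/

universe u

open TensorProduct RingTheory.Sequence
open scoped Pointwise

namespace Groth.Agent.FlatDepthFormula

section Quot

variable {A B : Type u} [CommRing A] [CommRing B] [Algebra A B]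
variable (M : Type u) [AddCommGroup M] [Module B M] [Module A M] [IsScalarTower A B M]

/-- `(M / J M) ⊗ X = (M ⊗ X) / J (M ⊗ X)`. -/
noncomputable def quotTensor (J : Ideal B) (X : Type u) [AddCommGroup X] [Module A X] :
    ((M ⊗[A] X) ⧸ (J • (⊤ : Submodule B (M ⊗[A] X)))) ≃ₗ[B] (M ⧸ (J • (⊤ : Submodule B M))) ⊗[A] X :=
  LinearEquiv.ofLinearMap
    (Submodule.liftQ _ (AlgebraTensorModule.map (J • (⊤ : Submodule B M)).mkQ LinearMap.id) (by
      refine Submodule.smul_le.mpr fun j hj z _ => ?_
      rw [LinearMap.mem_ker, map_smul]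
      induction z using TensorProduct.induction_on with
      | zero => simp
      | add a b ha hb => rw [map_add, smul_add, ha Submodule.mem_top, hb Submodule.mem_top, add_zero]
      | tmul m x =>
        rw [AlgebraTensorModule.map_tmul, smul_tmul', Submodule.mkQ_apply, ← Submodule.Quotient.mk_smul,
          (Submodule.Quotient.mk_eq_zero _).mpr (Submodule.smul_mem_smul hj Submodule.mem_top), zero_tmul]))
    (AlgebraTensorModule.lift (Submodule.liftQ (J • (⊤ : Submodule B M))
      ({ toFun := fun m => ((J • (⊤ : Submodule B (M ⊗[A] X))).mkQ.restrictScalars A).comp (TensorProduct.mk A M X m)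
         map_add' := fun a b => by ext x; simp [add_tmul]
         map_smul' := fun c m => by
           ext x
           simp [← smul_tmul'] } : M →ₗ[B] X →ₗ[A] ((M ⊗[A] X) ⧸ (J • (⊤ : Submodule B (M ⊗[A] X)))))
      (by
        refine Submodule.smul_le.mpr fun j hj m _ => ?_
        rw [LinearMap.mem_ker]
        ext x
        show (Submodule.Quotient.mk ((j • m) ⊗ₜ[A] x) : _ ⧸ _) = 0
        rw [Submodule.Quotient.mk_eq_zero, ← smul_tmul']
        exact Submodule.smul_mem_smul hj trivial)))
    (by
      refine AlgebraTensorModule.ext fun q x => ?_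
      obtain ⟨m, rfl⟩ := Submodule.Quotient.mk_surjective _ q
      rfl)
    (by
      refine Submodule.linearMap_qext _ (AlgebraTensorModule.curry_injective ?_)
      ext m x
      rfl)

theorem quotTensor_mk (J : Ideal B) (X : Type u) [AddCommGroup X] [Module A X] (m : M) (x : X) :
    quotTensor M J X (Submodule.Quotient.mk (m ⊗ₜ[A] x)) = (Submodule.Quotient.mk m) ⊗ₜ[A] x := rfl

/-- `M ⊗ A/I = M / I M` over `B`. -/
noncomputable def tensorQuot (I : Ideal A) :
    M ⊗[A] (A ⧸ I) ≃ₗ[B] M ⧸ (I.map (algebraMap A B) • (⊤ : Submodule B M)) :=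
  LinearEquiv.ofLinearMap
    (AlgebraTensorModule.lift
      ({ toFun := fun m => (Submodule.liftQ I
          (LinearMap.toSpanSingleton A _ (Submodule.Quotient.mk m : M ⧸ (I.map (algebraMap A B) • (⊤ : Submodule B M))))
          (fun a ha => by
            rw [LinearMap.mem_ker, LinearMap.toSpanSingleton_apply, ← Submodule.Quotient.mk_smul,
              Submodule.Quotient.mk_eq_zero, ← algebraMap_smul B a m]
            exact Submodule.smul_mem_smul (Ideal.mem_map_of_mem _ ha) trivial))
         map_add' := fun m n => Submodule.linearMap_qext _ (LinearMap.ext_ring (show (1 : A) • (Submodule.Quotient.mk (m + n) : M ⧸ (I.map (algebraMap A B) • (⊤ : Submodule B M))) = (1 : A) • Submodule.Quotient.mk m + (1 : A) • Submodule.Quotient.mk n by rw [one_smul, one_smul, one_smul, Submodule.Quotient.mk_add]))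
         map_smul' := fun c m => Submodule.linearMap_qext _ (LinearMap.ext_ring (show (1 : A) • (Submodule.Quotient.mk (c • m) : M ⧸ (I.map (algebraMap A B) • (⊤ : Submodule B M))) = c • ((1 : A) • Submodule.Quotient.mk m) by rw [one_smul, one_smul, Submodule.Quotient.mk_smul])) } : M →ₗ[B] (A ⧸ I) →ₗ[A] M ⧸ (I.map (algebraMap A B) • (⊤ : Submodule B M))))
    (Submodule.liftQ _
        ({ toFun := fun m => m ⊗ₜ[A] (Ideal.Quotient.mk I 1)
           map_add' := fun a b => add_tmul a b _
           map_smul' := fun c m => (smul_tmul' c m _).symm } : M →ₗ[B] M ⊗[A] (A ⧸ I)) (by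
      refine Submodule.smul_le.mpr fun j hj m _ => ?_
      rw [LinearMap.mem_ker]
      show (j • m) ⊗ₜ[A] (Ideal.Quotient.mk I 1) = 0
      induction hj using Submodule.span_induction generalizing m with
      | zero => rw [zero_smul, zero_tmul]
      | add a b _ _ ha hb => rw [add_smul, add_tmul, ha m trivial, hb m trivial, add_zero]
      | smul c a _ ha => rw [smul_eq_mul, mul_comm, mul_smul, ha _ trivial]
      | mem j hj =>
        obtain ⟨a, ha, rfl⟩ := hj
        rw [algebraMap_smul, smul_tmul, map_one,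
          show a • (1 : A ⧸ I) = 0 by rw [Algebra.smul_def, mul_one]; exact Ideal.Quotient.eq_zero_iff_mem.mpr ha,
          tmul_zero]))
    (by
      refine Submodule.linearMap_qext _ ?_
      ext m
      show (1 : A) • (Submodule.Quotient.mk m : M ⧸ (I.map (algebraMap A B) • (⊤ : Submodule B M))) = Submodule.Quotient.mk m
      rw [one_smul])
    (by
      refine AlgebraTensorModule.ext fun m a => ?_
      obtain ⟨a, rfl⟩ := Ideal.Quotient.mk_surjective a
      show ((a • m) : M) ⊗ₜ[A] (Ideal.Quotient.mk I 1) = m ⊗ₜ[A] (Ideal.Quotient.mk I a)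
      rw [smul_tmul, map_one, Algebra.smul_def, mul_one]
      rfl)

end Quot

section Regular

variable {A B : Type u} [CommRing A] [CommRing B] [Algebra A B] [IsLocalRing A] [IsNoetherianRing A]
variable (M : Type u) [AddCommGroup M] [Module B M] [Module A M] [IsScalarTower A B M]

local notation "𝔪" => IsLocalRing.maximalIdeal A

variable {M} in
theorem isSMulRegular_tensor_of_pow [Module.Flat A M] {f : B} (hf : IsSMulRegular (M ⊗[A] (A ⧸ 𝔪)) f)
    (n : ℕ) (X : Type u) [AddCommGroup X] [Module A X] [Module.Finite A X]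
    (hX : ∀ a ∈ 𝔪 ^ n, ∀ x : X, a • x = 0) : IsSMulRegular (M ⊗[A] X) f := by
  suffices key : (∀ a ∈ 𝔪 ^ n, ∀ x : X, a • x = 0) → IsSMulRegular (M ⊗[A] X) f from key hX
  clear hX
  induction ‹Module.Finite A X› using IsNoetherianRing.induction_on_isQuotientEquivQuotientPrime with
  | subsingleton N => intro _; exact fun a b _ => Subsingleton.elim a b
  | quotient N p e =>
    intro hN
    have hp : p.asIdeal = 𝔪 := by
      refine le_antisymm (IsLocalRing.le_maximalIdeal p.2.ne_top) ?_
      refine Ideal.IsPrime.le_of_pow_le (n := n) fun a ha => ?_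
      have h := congrArg e (hN a ha (e.symm (Ideal.Quotient.mk _ 1)))
      rw [map_smul, e.apply_symm_apply, map_zero, map_one, Algebra.smul_def, mul_one] at h
      exact Ideal.Quotient.eq_zero_iff_mem.mp h
    exact ((AlgebraTensorModule.congr (LinearEquiv.refl B M)
      (e ≪≫ₗ Submodule.quotEquivOfEq _ _ hp)).isSMulRegular_congr f).mpr hf
  | exact N₁ N₂ N₃ g h hg hh hgh h₁ h₃ =>
    intro hN
    have r₁ := h₁ fun a ha x => hg (by rw [map_smul, hN a ha, map_zero])
    have r₃ := h₃ fun a ha x => by
      obtain ⟨y, rfl⟩ := hh x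
      rw [← map_smul, hN a ha, map_zero]
    refine isSMulRegular_of_range_eq_ker (f := AlgebraTensorModule.map (LinearMap.id : M →ₗ[B] M) g)
      (g := AlgebraTensorModule.map (LinearMap.id : M →ₗ[B] M) h) ?_ ?_ r₁ r₃
    · exact Module.Flat.lTensor_preserves_injective_linearMap g hg
    · refine Submodule.ext fun z => ?_
      exact ((Module.Flat.lTensor_exact M hgh) z).symm

variable [IsLocalRing B] [IsNoetherianRing B] [IsLocalHom (algebraMap A B)]

omit [IsNoetherianRing A] [IsNoetherianRing B] in
theorem map_maximalIdeal_le : (𝔪).map (algebraMap A B) ≤ IsLocalRing.maximalIdeal B :=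
  ((IsLocalRing.local_hom_TFAE (algebraMap A B)).out 0 2 rfl rfl).mp ‹_›

variable {M} in
theorem finite_tensor [Module.Finite B M] (X : Type u) [AddCommGroup X] [Module A X] [Module.Finite A X] :
    Module.Finite B (M ⊗[A] X) := by
  obtain ⟨n, p, hp⟩ := Module.Finite.exists_fin' A X
  haveI : Module.Finite B (M ⊗[A] (Fin n → A)) :=
    Module.Finite.equiv (TensorProduct.piScalarRight A B M (Fin n)).symm
  exact Module.Finite.of_surjective (AlgebraTensorModule.map (LinearMap.id : M →ₗ[B] M) p)
    (LinearMap.lTensor_surjective M hp)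

variable {M} in
/-- An element regular on the closed fibre is regular on every `M ⊗ X`. -/
theorem isSMulRegular_tensor [Module.Finite B M] [Module.Flat A M] {f : B}
    (hf : IsSMulRegular (M ⊗[A] (A ⧸ 𝔪)) f) (X : Type u) [AddCommGroup X] [Module A X] [Module.Finite A X] :
    IsSMulRegular (M ⊗[A] X) f := by
  haveI := finite_tensor (A := A) (B := B) (M := M) X
  rw [isSMulRegular_iff_right_eq_zero_of_smul]
  intro z hz
  have hbot := Ideal.iInf_pow_smul_eq_bot_of_le_jacobson (M := M ⊗[A] X) ((𝔪).map (algebraMap A B))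
    ((map_maximalIdeal_le (A := A) (B := B)).trans (IsLocalRing.maximalIdeal_le_jacobson _))
  rw [← Submodule.mem_bot B, ← hbot, Submodule.mem_iInf]
  intro n
  let P : Submodule A X := (𝔪) ^ n • (⊤ : Submodule A X)
  let q : M ⊗[A] X →ₗ[B] M ⊗[A] (X ⧸ P) := AlgebraTensorModule.map (LinearMap.id : M →ₗ[B] M) P.mkQ
  have hreg : IsSMulRegular (M ⊗[A] (X ⧸ P)) f := isSMulRegular_tensor_of_pow hf n (X ⧸ P) fun a ha x => by
    obtain ⟨x, rfl⟩ := Submodule.Quotient.mk_surjective _ x
    rw [← Submodule.Quotient.mk_smul, Submodule.Quotient.mk_eq_zero]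
    exact Submodule.smul_mem_smul ha trivial
  have hqz : q z = 0 := hreg.right_eq_zero_of_smul (by rw [← map_smul, hz, map_zero])
  obtain ⟨w, rfl⟩ := ((lTensor_exact M (LinearMap.exact_subtype_mkQ P) P.mkQ_surjective) z).mp hqz
  clear hqz hz
  induction w using TensorProduct.induction_on with
  | zero => simp
  | add a b ha hb => rw [map_add]; exact add_mem ha hb
  | tmul m x =>
    obtain ⟨x, hx⟩ := x
    rw [LinearMap.lTensor_tmul]
    show m ⊗ₜ[A] x ∈ _
    induction hx using Submodule.smul_induction_on' with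
    | smul a ha y _ =>
      rw [tmul_smul, ← algebraMap_smul B a, ← Ideal.map_pow]
      exact Submodule.smul_mem_smul (Ideal.mem_map_of_mem _ ha) trivial
    | add a _ b _ ha hb => rw [tmul_add]; exact add_mem ha hb

variable {M} in
/-- Cutting by an element regular on the closed fibre keeps flatness. -/
theorem flat_quotient [Module.Finite B M] [Module.Flat A M] {f : B}
    (hf : IsSMulRegular (M ⊗[A] (A ⧸ 𝔪)) f) :
    Module.Flat A (M ⧸ (Ideal.span {f} • (⊤ : Submodule B M))) := by
  rw [Module.Flat.iff_lTensor_injective']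
  intro I
  refine (injective_iff_map_eq_zero _).mpr fun z hz => ?_
  let P : Submodule B M := Ideal.span {f} • ⊤
  let π : M →ₗ[A] M ⧸ P := P.mkQ.restrictScalars A
  obtain ⟨w, rfl⟩ := LinearMap.rTensor_surjective (g := π) I P.mkQ_surjective z
  have hw : π.rTensor A (I.subtype.lTensor M w) = 0 := by
    rw [← LinearMap.comp_apply, LinearMap.rTensor_comp_lTensor, ← LinearMap.lTensor_comp_rTensor,
      LinearMap.comp_apply]
    exact hz
  obtain ⟨y, hy⟩ : ∃ y : M ⊗[A] A, I.subtype.lTensor M w = f • y := by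
    have hmem : TensorProduct.rid A M (I.subtype.lTensor M w) ∈ P := by
      rw [← Submodule.Quotient.mk_eq_zero]
      have hnat : ∀ v : M ⊗[A] A, (Submodule.Quotient.mk (TensorProduct.rid A M v) : M ⧸ P) =
          TensorProduct.rid A (M ⧸ P) (π.rTensor A v) := fun v => by
        induction v using TensorProduct.induction_on with
        | zero => simp
        | add a b ha hb => simp only [map_add, Submodule.Quotient.mk_add, ha, hb]
        | tmul m a => simp [π]
      rw [hnat, hw, map_zero]
    rw [show P = f • ⊤ from Submodule.ideal_span_singleton_smul _ _, Submodule.mem_smul_pointwise_iff_exists] at hmem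
    obtain ⟨m, -, hm⟩ := hmem
    refine ⟨m ⊗ₜ 1, (TensorProduct.rid A M).injective ?_⟩
    rw [← hm, smul_tmul', TensorProduct.rid_tmul, one_smul]
  have hy0 : I.mkQ.lTensor M y = 0 := by
    refine (isSMulRegular_tensor hf (A ⧸ I)).right_eq_zero_of_smul ?_
    have e : f • I.mkQ.lTensor M y = AlgebraTensorModule.map (LinearMap.id : M →ₗ[B] M) I.mkQ (f • y) := by
      rw [map_smul]; rfl
    rw [e, ← hy]
    show I.mkQ.lTensor M (I.subtype.lTensor M w) = 0
    exact ((lTensor_exact M (LinearMap.exact_subtype_mkQ I) I.mkQ_surjective) _).mpr ⟨w, rfl⟩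
  obtain ⟨w', rfl⟩ := ((lTensor_exact M (LinearMap.exact_subtype_mkQ I) I.mkQ_surjective) y).mp hy0
  have hww : w = f • w' := Module.Flat.lTensor_preserves_injective_linearMap I.subtype Subtype.val_injective (by
    rw [hy]
    exact ((AlgebraTensorModule.map (LinearMap.id : M →ₗ[B] M) I.subtype).map_smul f w').symm)
  rw [hww]
  clear hww hw hz hy hy0
  induction w' using TensorProduct.induction_on with
  | zero => simp
  | add a b ha hb => rw [smul_add, map_add, ha, hb, add_zero]
  | tmul m i =>
    rw [smul_tmul', LinearMap.rTensor_tmul]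
    show (Submodule.Quotient.mk (f • m) : M ⧸ P) ⊗ₜ[A] i = 0
    rw [(Submodule.Quotient.mk_eq_zero P).mpr
      (Submodule.smul_mem_smul (Ideal.mem_span_singleton_self f) trivial), zero_tmul]

variable {M} in
/-- A sequence regular on the closed fibre: flat quotients, and regular on every `M ⊗ X`. -/
theorem main [Module.Finite B M] [Module.Flat A M] (fs : List B)
    (hfs : IsWeaklyRegular (M ⊗[A] (A ⧸ 𝔪)) fs) :
    (∀ i ≤ fs.length, Module.Flat A (M ⧸ (Ideal.ofList (fs.take i) • (⊤ : Submodule B M)))) ∧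
      ∀ (X : Type u) [AddCommGroup X] [Module A X] [Module.Finite A X], IsWeaklyRegular (M ⊗[A] X) fs := by
  have hk : ∀ (i : ℕ) (hi : i < fs.length),
      IsSMulRegular ((M ⧸ (Ideal.ofList (fs.take i) • (⊤ : Submodule B M))) ⊗[A] (A ⧸ 𝔪)) fs[i] := fun i hi =>
    ((quotTensor M (Ideal.ofList (fs.take i)) (A ⧸ 𝔪)).isSMulRegular_congr fs[i]).mp (hfs.regular_mod_prev i hi)
  have hflat : ∀ i ≤ fs.length, Module.Flat A (M ⧸ (Ideal.ofList (fs.take i) • (⊤ : Submodule B M))) := by
    intro i hi
    induction i with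
    | zero =>
      exact Module.Flat.of_linearEquiv
        ((Submodule.quotEquivOfEqBot _ (by simp)).restrictScalars A)
    | succ i ih =>
      haveI := ih (Nat.le_of_succ_le hi)
      have hfl := flat_quotient (hk i hi)
      let e : ((M ⧸ (Ideal.ofList (fs.take i) • (⊤ : Submodule B M))) ⧸
          (Ideal.span {fs[i]} • (⊤ : Submodule B (M ⧸ (Ideal.ofList (fs.take i) • (⊤ : Submodule B M)))))) ≃ₗ[B]
          M ⧸ (Ideal.ofList (fs.take (i + 1)) • (⊤ : Submodule B M)) :=
        Submodule.quotEquivOfEq _ _ (by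
          rw [Submodule.map_smul'', Submodule.map_top, Submodule.range_mkQ]) ≪≫ₗ
        Submodule.quotientQuotientEquivQuotientSup (Ideal.ofList (fs.take i) • ⊤) (Ideal.span {fs[i]} • ⊤) ≪≫ₗ
        Submodule.quotEquivOfEq _ _ (by
          rw [← Submodule.sup_smul, List.take_add_one, Ideal.ofList_append, List.getElem?_eq_getElem hi,
            Option.toList_some, Ideal.ofList_singleton])
      exact Module.Flat.of_linearEquiv (e.restrictScalars A).symm
  refine ⟨hflat, fun X _ _ _ => ⟨fun i hi => ?_⟩⟩
  haveI := hflat i hi.le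
  exact ((quotTensor M (Ideal.ofList (fs.take i)) X).isSMulRegular_congr fs[i]).mpr
    (isSMulRegular_tensor (hk i hi) X)

/-- Regularity on the fibre written as a quotient. -/
theorem isWeaklyRegular_fibre_iff (fs : List B) :
    IsWeaklyRegular (M ⊗[A] (A ⧸ 𝔪)) fs ↔
      IsWeaklyRegular (M ⧸ ((𝔪).map (algebraMap A B) • (⊤ : Submodule B M))) fs :=
  (tensorQuot M 𝔪).isWeaklyRegular_congr fs

variable {M} in
theorem isWeaklyRegular_self [Module.Finite B M] [Module.Flat A M] (fs : List B)
    (hfs : IsWeaklyRegular (M ⊗[A] (A ⧸ 𝔪)) fs) : IsWeaklyRegular M fs :=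
  ((AlgebraTensorModule.rid A B M).isWeaklyRegular_congr fs).mp ((main fs hfs).2 A)

variable {M} in
theorem depth_zero_of_fibre [Module.Finite B M] [Module.Flat A M] (X : Type u) [AddCommGroup X] [Module A X]
    [Module.Finite A X] (hX : LocCoh.depth A X = 0) (hM : LocCoh.depth B (M ⊗[A] (A ⧸ 𝔪)) = 0) :
    LocCoh.depth B (M ⊗[A] X) = 0 := by
  haveI := finite_tensor (A := A) (B := B) (M := M) X
  haveI := finite_tensor (A := A) (B := B) (M := M) (A ⧸ 𝔪)
  rw [DepthLib.depth_eq_zero_iff] at hX hM ⊢
  obtain ⟨x, hx⟩ := (isAssociatedPrime_iff.mp hX).2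
  let φ : (A ⧸ 𝔪) →ₗ[A] X := Submodule.liftQ _ (LinearMap.toSpanSingleton A X x) (fun a ha => by
    rw [hx, Submodule.mem_colon_singleton, Submodule.mem_bot] at ha
    exact ha)
  have hφ : Function.Injective φ := by
    refine LinearMap.ker_eq_bot.mp (Submodule.ker_liftQ_eq_bot _ _ _ fun a ha => ?_)
    rw [hx, Submodule.mem_colon_singleton, Submodule.mem_bot]
    exact ha
  exact associatedPrimes.subset_of_injective (f := AlgebraTensorModule.map (LinearMap.id : M →ₗ[B] M) φ)
    (Module.Flat.lTensor_preserves_injective_linearMap φ hφ) hM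

variable {M} in
/-- The depth of `M ⊗ X` is the sum of the depths. -/
theorem depth_tensor [Module.Finite B M] [Module.Flat A M] (X : Type u) [AddCommGroup X] [Module A X]
    [Module.Finite A X] :
    LocCoh.depth B (M ⊗[A] X) = LocCoh.depth A X + LocCoh.depth B (M ⊗[A] (A ⧸ 𝔪)) := by
  haveI := finite_tensor (A := A) (B := B) (M := M) X
  haveI := finite_tensor (A := A) (B := B) (M := M) (A ⧸ 𝔪)
  rcases subsingleton_or_nontrivial X with hXs | hXn
  · rw [DepthLib.depth_eq_top_of_subsingleton, DepthLib.depth_eq_top_of_subsingleton, top_add]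
  rcases subsingleton_or_nontrivial (M ⊗[A] (A ⧸ 𝔪)) with hs | hn
  · haveI : Subsingleton M := by
      refine Submodule.subsingleton_iff B |>.mp (subsingleton_of_bot_eq_top ?_)
      refine (Submodule.eq_bot_of_le_smul_of_le_jacobson_bot ((𝔪).map (algebraMap A B)) ⊤ Module.Finite.fg_top ?_
        ((map_maximalIdeal_le (A := A) (B := B)).trans (IsLocalRing.maximalIdeal_le_jacobson _))).symm
      rw [top_le_iff, ← Submodule.Quotient.subsingleton_iff]
      exact (tensorQuot M 𝔪).symm.toEquiv.subsingleton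
    rw [DepthLib.depth_eq_top_of_subsingleton, DepthLib.depth_eq_top_of_subsingleton (M := M ⊗[A] (A ⧸ 𝔪)),
      add_top]
  have hX : 𝔪 • (⊤ : Submodule A X) ≠ ⊤ := DepthLib.maximalIdeal_smul_top_ne_top
  have hN : IsLocalRing.maximalIdeal B • (⊤ : Submodule B (M ⊗[A] (A ⧸ 𝔪))) ≠ ⊤ :=
    DepthLib.maximalIdeal_smul_top_ne_top
  obtain ⟨d, hd⟩ := WithTop.ne_top_iff_exists.mp
    (fun ht => hX (DepthLib.idealDepth_eq_top_iff.mp ht) : LocCoh.depth A X ≠ ⊤)
  obtain ⟨e, he⟩ := WithTop.ne_top_iff_exists.mp
    (fun ht => hN (DepthLib.idealDepth_eq_top_iff.mp ht) : LocCoh.depth B (M ⊗[A] (A ⧸ 𝔪)) ≠ ⊤)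
  obtain ⟨rs, hlen, hrs, hrsI⟩ := DepthLib.natCast_le_depth_iff.mp hd.le
  obtain ⟨fs, hflen, hfs, hfsI⟩ := DepthLib.natCast_le_depth_iff.mp he.le
  set J := Ideal.ofList rs
  have hX0 : LocCoh.depth A (X ⧸ (J • ⊤ : Submodule A X)) = 0 := by
    have := DepthLib.idealDepth_quot_ofList_add_length rs X hrs hrsI
    rw [hlen] at this
    change _ + (d : ℕ∞) = LocCoh.depth A X at this
    rw [← hd] at this
    exact (ENat.add_left_injective_of_ne_top (ENat.coe_ne_top d)) (this.trans (zero_add _).symm)
  obtain ⟨hflat, hreg⟩ := main fs hfs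
  let M' := M ⧸ (Ideal.ofList fs • (⊤ : Submodule B M))
  haveI : Module.Flat A M' := by
    have := hflat fs.length le_rfl
    rwa [List.take_length] at this
  haveI := finite_tensor (A := A) (B := B) (M := M') (A ⧸ 𝔪)
  haveI := finite_tensor (A := A) (B := B) (M := M') (X ⧸ (J • ⊤ : Submodule A X))
  have hM0 : LocCoh.depth B (M' ⊗[A] (A ⧸ 𝔪)) = 0 := by
    have := DepthLib.idealDepth_quot_ofList_add_length fs (M ⊗[A] (A ⧸ 𝔪)) hfs hfsI
    rw [hflen] at this
    change LocCoh.depth B _ + (e : ℕ∞) = LocCoh.depth B (M ⊗[A] (A ⧸ 𝔪)) at this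
    rw [← he, DepthLib.depth_congr (quotTensor M (Ideal.ofList fs) (A ⧸ 𝔪))] at this
    exact (ENat.add_left_injective_of_ne_top (ENat.coe_ne_top e)) (this.trans (zero_add _).symm)
  -- the base sequence on `M ⊗ X`
  let rs' := rs.map (algebraMap A B)
  have hrs' : IsWeaklyRegular (M ⊗[A] X) rs' :=
    (RingTheory.Sequence.isWeaklyRegular_map_algebraMap_iff B (M ⊗[A] X) rs).mpr hrs.isWeaklyRegular_lTensor
  have hrsI' : ∀ r ∈ rs', r ∈ IsLocalRing.maximalIdeal B := fun r hr => by
    obtain ⟨a, ha, rfl⟩ := List.mem_map.mp hr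
    exact map_maximalIdeal_le (Ideal.mem_map_of_mem _ (hrsI a ha))
  let E1 : ((M ⊗[A] X) ⧸ (Ideal.ofList rs' • (⊤ : Submodule B (M ⊗[A] X)))) ≃ₗ[B]
      M ⊗[A] (X ⧸ (J • ⊤ : Submodule A X)) :=
    Submodule.quotEquivOfEq _ (LinearMap.ker (AlgebraTensorModule.map (LinearMap.id : M →ₗ[B] M) (J • ⊤ : Submodule A X).mkQ)) (by
      refine le_antisymm (Submodule.smul_le.mpr fun j hj z _ => ?_) fun z hz => ?_
      · rw [← Ideal.map_ofList] at hj
        rw [LinearMap.mem_ker, map_smul]
        generalize AlgebraTensorModule.map (LinearMap.id : M →ₗ[B] M) (J • ⊤ : Submodule A X).mkQ z = v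
        refine Submodule.span_induction (fun y hy => ?_) (zero_smul _ _) (fun a b _ _ ha hb => by
          rw [add_smul, ha, hb, add_zero]) (fun c a _ ha => by rw [smul_eq_mul, mul_smul, ha, smul_zero]) hj
        obtain ⟨a, ha, rfl⟩ := hy
        induction v using TensorProduct.induction_on with
        | zero => exact smul_zero _
        | tmul b q =>
          rw [algebraMap_smul, ← TensorProduct.tmul_smul]
          obtain ⟨x, rfl⟩ := Submodule.Quotient.mk_surjective _ q
          rw [← Submodule.Quotient.mk_smul, (Submodule.Quotient.mk_eq_zero _).mpr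
            (Submodule.smul_mem_smul ha Submodule.mem_top), TensorProduct.tmul_zero]
        | add v w hv hw => rw [smul_add, hv, hw, add_zero]
      · obtain ⟨w, rfl⟩ := ((lTensor_exact M (LinearMap.exact_subtype_mkQ _) (J • ⊤ : Submodule A X).mkQ_surjective) z).mp hz
        clear hz
        induction w using TensorProduct.induction_on with
        | zero => simp
        | add a b ha hb => rw [map_add]; exact add_mem ha hb
        | tmul m x =>
          obtain ⟨x, hx⟩ := x
          rw [LinearMap.lTensor_tmul]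
          show m ⊗ₜ[A] x ∈ _
          induction hx using Submodule.smul_induction_on' with
          | smul a ha y _ =>
            rw [tmul_smul, ← algebraMap_smul B a, ← Ideal.map_ofList]
            exact Submodule.smul_mem_smul (Ideal.mem_map_of_mem _ ha) trivial
          | add a _ b _ ha hb => rw [tmul_add]; exact add_mem ha hb) ≪≫ₗ
    LinearMap.quotKerEquivOfSurjective _ (LinearMap.lTensor_surjective M (Submodule.mkQ_surjective _))
  haveI := finite_tensor (A := A) (B := B) (M := M) (X ⧸ (J • ⊤ : Submodule A X))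
  have h1 := DepthLib.idealDepth_quot_ofList_add_length rs' (M ⊗[A] X) hrs' hrsI'
  rw [List.length_map, hlen, DepthLib.idealDepth_congr E1] at h1
  have h2 := DepthLib.idealDepth_quot_ofList_add_length fs (M ⊗[A] (X ⧸ (J • ⊤ : Submodule A X)))
    (hreg _) hfsI
  rw [hflen, DepthLib.idealDepth_congr (quotTensor M (Ideal.ofList fs) (X ⧸ (J • ⊤ : Submodule A X)))] at h2
  have h0 := depth_zero_of_fibre (M := M') (X ⧸ (J • ⊤ : Submodule A X)) hX0 hM0
  change LocCoh.idealDepth _ _ = 0 at h0
  rw [h0, zero_add] at h2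
  rw [← h2] at h1
  change LocCoh.idealDepth _ _ = _
  rw [← h1, ← hd, ← he, add_comm]
  rfl

end Regular

end Groth.Agent.FlatDepthFormula
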